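import Cfsg.Agent.Comp.Pres
import Cfsg.Agent.Comp.Suz.Rels
import Cfsg.Agent.Comp.Suz.ED

set_option autoImplicit false
set_option maxRecDepth 1000000
set_option maxHeartbeats 0

namespace CF.Comp.Suz

theorem e1_all : Cov e1_F 112 8 0 := by
  have h := Cov.zero e1_F 112
  have h := h.blk (b := 112) e1_k0_0 rfl
  have h := h.next (y := 1) rfl rfl
  have h := h.blk (b := 112) e1_k1_0 rfl
  have h := h.next (y := 2) rfl rfl
  have h := h.blk (b := 112) e1_k2_0 rfl
  have h := h.next (y := 3) rfl rfl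
  have h := h.blk (b := 112) e1_k3_0 rfl
  have h := h.next (y := 4) rfl rfl
  have h := h.blk (b := 112) e1_k4_0 rfl
  have h := h.next (y := 5) rfl rfl
  have h := h.blk (b := 112) e1_k5_0 rfl
  have h := h.next (y := 6) rfl rfl
  have h := h.blk (b := 112) e1_k6_0 rfl
  have h := h.next (y := 7) rfl rfl
  have h := h.blk (b := 112) e1_k7_0 rfl
  have h := h.next (y := 8) rfl rfl
  exact h

theorem e1 : Enum rels H1 (gensW 7) 1782 :=
  ⟨e1_cols, e1_ch, e1_L, e1_H, e1_pb.1, e1_e.get, [(nat_lit 0), (nat_lit 1), (nat_lit 3), (nat_lit 5), (nat_lit 7), (nat_lit 9), (nat_lit 11), (nat_lit 13)], (nat_lit 127), (nat_lit 7), e1_rots, e1_hcs,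
    (nat_lit 1783), (nat_lit 8), (nat_lit 8192), (nat_lit 256), (nat_lit 2097152), (nat_lit 524287), (nat_lit 8), (nat_lit 255), (nat_lit 29), (nat_lit 536870911), (nat_lit 28), (nat_lit 112),
    fun _ _ => rfl, fun _ => rfl, fun _ _ => rfl, by decide +kernel, e1_all.1⟩

theorem e2_all : Cov e2_F 16 7 0 := by
  have h := Cov.zero e2_F 16
  have h := h.blk (b := 16) e2_k0_0 rfl
  have h := h.next (y := 1) rfl rfl
  have h := h.blk (b := 16) e2_k1_0 rfl
  have h := h.next (y := 2) rfl rfl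
  have h := h.blk (b := 16) e2_k2_0 rfl
  have h := h.next (y := 3) rfl rfl
  have h := h.blk (b := 16) e2_k3_0 rfl
  have h := h.next (y := 4) rfl rfl
  have h := h.blk (b := 16) e2_k4_0 rfl
  have h := h.next (y := 5) rfl rfl
  have h := h.blk (b := 16) e2_k5_0 rfl
  have h := h.next (y := 6) rfl rfl
  have h := h.blk (b := 16) e2_k6_0 rfl
  have h := h.next (y := 7) rfl rfl
  exact h

theorem e2 : Enum R1 H2 H1 416 :=
  ⟨e2_cols, e2_ch, e2_L, e2_H, e2_pb.1, e2_e.get, [(nat_lit 0), (nat_lit 1), (nat_lit 3), (nat_lit 5), (nat_lit 7), (nat_lit 9), (nat_lit 11)], (nat_lit 63), (nat_lit 7), e2_rots, e2_hcs,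
    (nat_lit 417), (nat_lit 7), (nat_lit 1024), (nat_lit 256), (nat_lit 262144), (nat_lit 65535), (nat_lit 8), (nat_lit 255), (nat_lit 25), (nat_lit 33554431), (nat_lit 4), (nat_lit 16),
    fun _ _ => rfl, fun _ => rfl, fun _ _ => rfl, by decide +kernel, e2_all.1⟩

theorem e3_all : Cov e3_F 8 6 0 := by
  have h := Cov.zero e3_F 8
  have h := h.blk (b := 8) e3_k0_0 rfl
  have h := h.next (y := 1) rfl rfl
  have h := h.blk (b := 8) e3_k1_0 rfl
  have h := h.next (y := 2) rfl rfl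
  have h := h.blk (b := 8) e3_k2_0 rfl
  have h := h.next (y := 3) rfl rfl
  have h := h.blk (b := 8) e3_k3_0 rfl
  have h := h.next (y := 4) rfl rfl
  have h := h.blk (b := 8) e3_k4_0 rfl
  have h := h.next (y := 5) rfl rfl
  have h := h.blk (b := 8) e3_k5_0 rfl
  have h := h.next (y := 6) rfl rfl
  exact h

theorem e3 : Enum R2 H3 H2 280 :=
  ⟨e3_cols, e3_ch, e3_L, e3_H, e3_pb.1, e3_e.get, [(nat_lit 0), (nat_lit 1), (nat_lit 3), (nat_lit 5), (nat_lit 7), (nat_lit 9)], (nat_lit 31), (nat_lit 7), e3_rots, e3_hcs,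
    (nat_lit 281), (nat_lit 6), (nat_lit 512), (nat_lit 128), (nat_lit 65536), (nat_lit 32767), (nat_lit 8), (nat_lit 255), (nat_lit 23), (nat_lit 8388607), (nat_lit 2), (nat_lit 8),
    fun _ _ => rfl, fun _ => rfl, fun _ _ => rfl, by decide +kernel, e3_all.1⟩

theorem e4_all : Cov e4_F 16 5 0 := by
  have h := Cov.zero e4_F 16
  have h := h.blk (b := 16) e4_k0_0 rfl
  have h := h.next (y := 1) rfl rfl
  have h := h.blk (b := 16) e4_k1_0 rfl
  have h := h.next (y := 2) rfl rfl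
  have h := h.blk (b := 16) e4_k2_0 rfl
  have h := h.next (y := 3) rfl rfl
  have h := h.blk (b := 16) e4_k3_0 rfl
  have h := h.next (y := 4) rfl rfl
  have h := h.blk (b := 16) e4_k4_0 rfl
  have h := h.next (y := 5) rfl rfl
  exact h

theorem e4 : Enum R3 H4 H3 135 :=
  ⟨e4_cols, e4_ch, e4_L, e4_H, e4_pb.1, e4_e.get, [(nat_lit 0), (nat_lit 1), (nat_lit 3), (nat_lit 5), (nat_lit 7)], (nat_lit 15), (nat_lit 7), e4_rots, e4_hcs,
    (nat_lit 136), (nat_lit 5), (nat_lit 1024), (nat_lit 64), (nat_lit 65536), (nat_lit 65535), (nat_lit 8), (nat_lit 255), (nat_lit 22), (nat_lit 4194303), (nat_lit 4), (nat_lit 16),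
    fun _ _ => rfl, fun _ => rfl, fun _ _ => rfl, by decide +kernel, e4_all.1⟩

theorem e6_all : Cov e6_F 4 4 0 := by
  have h := Cov.zero e6_F 4
  have h := h.blk (b := 4) e6_k0_0 rfl
  have h := h.next (y := 1) rfl rfl
  have h := h.blk (b := 4) e6_k1_0 rfl
  have h := h.next (y := 2) rfl rfl
  have h := h.blk (b := 4) e6_k2_0 rfl
  have h := h.next (y := 3) rfl rfl
  have h := h.blk (b := 4) e6_k3_0 rfl
  have h := h.next (y := 4) rfl rfl
  exact h

theorem e6 : Enum R4 [] H4 16 :=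
  ⟨e6_cols, e6_ch, e6_L, e6_H, e6_pb.1, e6_e.get, [(nat_lit 0), (nat_lit 1), (nat_lit 5), (nat_lit 7)], (nat_lit 13), (nat_lit 7), e6_rots, e6_hcs,
    (nat_lit 17), (nat_lit 4), (nat_lit 32), (nat_lit 16), (nat_lit 512), (nat_lit 2047), (nat_lit 8), (nat_lit 255), (nat_lit 13), (nat_lit 8191), (nat_lit 1), (nat_lit 4),
    fun _ _ => rfl, fun _ => rfl, fun _ _ => rfl, by decide +kernel, e6_all.1⟩

theorem e0_all : Cov e0_F 4 8 0 := by
  have h := Cov.zero e0_F 4
  have h := h.blk (b := 4) e0_k0_0 rfl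
  have h := h.next (y := 1) rfl rfl
  have h := h.blk (b := 4) e0_k1_0 rfl
  have h := h.next (y := 2) rfl rfl
  have h := h.blk (b := 4) e0_k2_0 rfl
  have h := h.next (y := 3) rfl rfl
  have h := h.blk (b := 4) e0_k3_0 rfl
  have h := h.next (y := 4) rfl rfl
  have h := h.blk (b := 4) e0_k4_0 rfl
  have h := h.next (y := 5) rfl rfl
  have h := h.blk (b := 4) e0_k5_0 rfl
  have h := h.next (y := 6) rfl rfl
  have h := h.blk (b := 4) e0_k6_0 rfl
  have h := h.next (y := 7) rfl rfl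
  have h := h.blk (b := 4) e0_k7_0 rfl
  have h := h.next (y := 8) rfl rfl
  exact h

theorem e0 : Enum (lapp [[1]] rels) [] (gensW 7) 1 :=
  ⟨e0_cols, e0_ch, e0_L, e0_H, e0_pb.1, e0_e.get, [(nat_lit 0), (nat_lit 1), (nat_lit 3), (nat_lit 5), (nat_lit 7), (nat_lit 9), (nat_lit 11), (nat_lit 13)], (nat_lit 127), (nat_lit 7), e0_rots, e0_hcs,
    (nat_lit 2), (nat_lit 8), (nat_lit 32), (nat_lit 64), (nat_lit 2048), (nat_lit 2047), (nat_lit 8), (nat_lit 255), (nat_lit 15), (nat_lit 32767), (nat_lit 1), (nat_lit 4),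
    fun _ _ => rfl, fun _ => rfl, fun _ _ => rfl, by decide +kernel, e0_all.1⟩


end CF.Comp.Suz
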