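import Cfsg.Agent.Comp.ChevM
import Cfsg.Agent.Comp.Suz.G2D
import Cfsg.Agent.Comp.Suz.Nets
import Cfsg.Agent.Comp.Suz.Rels
import Cfsg.Prelude.Def_ChevG2

set_option autoImplicit false
set_option maxRecDepth 1000000
set_option maxHeartbeats 0
set_option Elab.async false

namespace CF.Comp.Suz

theorem linG_a : linAll (tabQ 2 1 1) 1365 14 GV GA G0 GCs 5 = true := by decide +kernel
theorem linG : LinOK (tabQ 2 1 1) 1365 14 5 GV GA G0 :=
  ⟨⟨Gσ, by decide +kernel⟩, by decide +kernel, by decide +kernel, rfl,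
    GCs, by decide +kernel, rfl, linAll_iff.1 linG_a⟩
theorem chG : ChainGe G0 G1 1365 11 5 GW GC 251596800 :=
  ⟨rfl, by decide, by decide, slp_of_slpOK (by decide +kernel), by decide +kernel, by decide +kernel,
    by decide +kernel⟩
theorem chevG : allFrom (chevAt (tabQ 2 1 1) 1 Cfsg.Lie.chevG2 GA GA GR) 0 5 = true := by decide +kernel
theorem subG : subOK N G0 Gν GWs 1365 11 = true := by decide +kernel

end CF.Comp.Suz
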